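import Cfsg.Agent.EqLemmas

/-!
Arithmetic for the maximal order of automorphisms of `PSL`.

Main results (namespace `Cfsg.Agent.AutPSLOrder`):
* `field_arith`, `graph_arith`
-/

set_option autoImplicit false

namespace Cfsg.Agent.AutPSLOrder

/-- `1 + a + ⋯ + a ^ (d - 1)`. -/
def gsum (a d : ℕ) : ℕ := ∑ i ∈ Finset.range d, a ^ i

theorem gsum_succ (a d : ℕ) : gsum a (d + 1) = gsum a d + a ^ d := Finset.sum_range_succ _ _

theorem gsum_two (a : ℕ) : gsum a 2 = 1 + a := by simp [gsum, Finset.sum_range_succ]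

theorem gsum_three (a : ℕ) : gsum a 3 = 1 + a + a ^ 2 := by simp [gsum, Finset.sum_range_succ]

theorem mul_gsum_add_one (a d : ℕ) (ha : 1 ≤ a) : (a - 1) * gsum a d + 1 = a ^ d := by
  obtain ⟨b, rfl⟩ : ∃ b, a = b + 1 := ⟨a - 1, by omega⟩
  rw [Nat.add_sub_cancel, gsum, mul_comm]
  exact geom_sum_mul_add b d

theorem le_gsum {a d m : ℕ} (ha : 2 ≤ a) (h : (a - 1) * m + 1 ≤ a ^ d) : m ≤ gsum a d := by
  rw [← mul_gsum_add_one a d (by omega)] at h
  exact Nat.le_of_mul_le_mul_left (by omega : (a - 1) * m ≤ (a - 1) * gsum a d) (by omega)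

theorem le_sub_one_mul {a d n : ℕ} (ha : 1 ≤ a) (h : n ≤ gsum a d) : (a - 1) * n ≤ a ^ d - 1 := by
  have := mul_gsum_add_one a d ha
  have := Nat.mul_le_mul_left (a - 1) h
  omega

theorem mul_pow_le {a e i : ℕ} (ha : 2 ≤ a) (he : 1 ≤ e) (hi : 1 ≤ i) : e * a ^ i ≤ (a ^ e) ^ i := by
  obtain ⟨f, rfl⟩ : ∃ f, e = f + 1 := ⟨e - 1, by omega⟩
  rw [← pow_mul, Nat.succ_mul f i, pow_add]
  refine Nat.mul_le_mul_right _ ?_
  calc f + 1 ≤ 2 ^ f := Nat.lt_two_pow_self
    _ ≤ a ^ f := Nat.pow_le_pow_left ha f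
    _ ≤ a ^ (f * i) := Nat.pow_le_pow_right (by omega) (Nat.le_mul_of_pos_right f hi)

theorem field_two {a e : ℕ} (ha : 2 ≤ a) (he : 2 ≤ e) (hex : 3 ≤ a ∨ 3 ≤ e) :
    e * (1 + a) ≤ 1 + a ^ e := by
  induction e, he using Nat.le_induction with
  | base =>
    rcases hex with h | h
    · nlinarith
    · omega
  | succ e he ih =>
    have h2 : a ^ 2 ≤ a ^ e := Nat.pow_le_pow_right (by omega) he
    by_cases h : 3 ≤ a ∨ 3 ≤ e
    · have := ih h
      rw [pow_succ a e]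
      have h3 : a ^ e * 2 ≤ a ^ e * a := Nat.mul_le_mul_left _ ha
      nlinarith
    · obtain rfl : e = 2 := by omega
      obtain rfl : a = 2 := by omega
      norm_num

theorem field_three : 2 * gsum 2 3 ≤ gsum (2 ^ 2) 3 := by decide

/-- The estimate for field automorphisms. -/
theorem field_arith {a e : ℕ} (ha : 2 ≤ a) (he : 1 ≤ e) :
    ∀ d, 2 ≤ d → ¬ (d = 2 ∧ a = 2 ∧ e = 2) → e * gsum a d ≤ gsum (a ^ e) d := by
  intro d hd hex
  rcases Nat.lt_or_ge e 2 with h1 | h1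
  · obtain rfl : e = 1 := by omega
    simp
  induction d, hd using Nat.le_induction with
  | base =>
    rw [gsum_two, gsum_two]
    exact field_two ha h1 (by omega)
  | succ d hd ih =>
    by_cases h : d = 2 ∧ a = 2 ∧ e = 2
    · obtain ⟨rfl, rfl, rfl⟩ := h
      exact field_three
    · rw [gsum_succ, gsum_succ, mul_add]
      exact Nat.add_le_add (ih h) (mul_pow_le ha he (by omega))

theorem graph_three {a e : ℕ} (ha : 2 ≤ a) (he : 2 ≤ e) (hex : 3 ≤ a ∨ 3 ≤ e) :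
    2 * e * (1 + a + a ^ 2) ≤ 1 + a ^ e + (a ^ e) ^ 2 := by
  induction e, he using Nat.le_induction with
  | base =>
    rcases hex with h | h
    · have : 9 * a ^ 2 ≤ a ^ 2 * a ^ 2 := Nat.mul_le_mul_right _ (by nlinarith)
      nlinarith
    · omega
  | succ e he ih =>
    have h2 : a ^ 2 ≤ a ^ e := Nat.pow_le_pow_right (by omega) he
    by_cases h : 3 ≤ a ∨ 3 ≤ e
    · have := ih h
      rw [pow_succ a e, mul_pow]
      have h3 : (a ^ e) ^ 2 * 4 ≤ (a ^ e) ^ 2 * a ^ 2 := Nat.mul_le_mul_left _ (by nlinarith)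
      have h6 : a ^ e * 2 ≤ a ^ e * a := Nat.mul_le_mul_left _ ha
      have h4 : a ^ 2 * a ^ 2 ≤ (a ^ e) ^ 2 := by
        rw [sq (a ^ e)]; exact Nat.mul_le_mul h2 h2
      have h5 : 4 * a ^ 2 ≤ a ^ 2 * a ^ 2 := Nat.mul_le_mul_right _ (by nlinarith)
      nlinarith
    · obtain rfl : e = 2 := by omega
      obtain rfl : a = 2 := by omega
      norm_num

/-- The estimate for graph-field automorphisms. -/
theorem graph_arith {a e : ℕ} (ha : 2 ≤ a) (he : 2 ≤ e) (hex : 3 ≤ a ∨ 3 ≤ e) :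
    ∀ d, 3 ≤ d → 2 * e * gsum a d ≤ gsum (a ^ e) d := by
  intro d hd
  induction d, hd using Nat.le_induction with
  | base => rw [gsum_three, gsum_three]; exact graph_three ha he hex
  | succ d hd ih =>
    rw [gsum_succ, gsum_succ, mul_add]
    refine Nat.add_le_add ih ?_
    obtain ⟨f, rfl⟩ : ∃ f, e = f + 1 := ⟨e - 1, by omega⟩
    rw [← pow_mul, Nat.succ_mul f d, pow_add]
    refine Nat.mul_le_mul_right _ ?_
    calc 2 * (f + 1) ≤ 2 ^ (f + 1) := by
          rw [pow_succ']; exact Nat.mul_le_mul_left _ Nat.lt_two_pow_self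
      _ ≤ 2 ^ (f * d) := Nat.pow_le_pow_right (by norm_num) (by nlinarith)
      _ ≤ a ^ (f * d) := Nat.pow_le_pow_left ha _

end Cfsg.Agent.AutPSLOrder
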