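import Cfsg.Agent.EqLemmas

/-!
Counting the powers of a matrix up to scalars inside its polynomial algebra.

Main results (namespace `Cfsg.Agent.AutPSLOrder`):
* `twisted_bound` : `g σ(x) g⁻¹ = x` bounds the projective order of `x` by the fixed field
* `dual_bound` : `g σ(x)ᵀ g⁻¹ = x⁻¹` bounds it by half of the Singer order
-/

set_option autoImplicit false

open Polynomial Matrix
open scoped MatrixGroups

namespace Cfsg.Agent.AutPSLOrder

variable {F : Type*} [Field F] {d : ℕ}

local notation "Mat" => Matrix (Fin d) (Fin d) F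

/-- The projective order. -/
noncomputable def pord (x : GL (Fin d) F) : ℕ :=
  orderOf (x : GL (Fin d) F ⧸ Subgroup.center (GL (Fin d) F))

theorem aeval_rem (x : Mat) (P : F[X]) : aeval x (P %ₘ minpoly F x) = aeval x P :=
  Polynomial.aeval_modByMonic_eq_self_of_root (minpoly.aeval F x)

theorem natDegree_minpoly_le (x : Mat) : (minpoly F x).natDegree ≤ d := by
  have h := Polynomial.natDegree_le_of_dvd (Matrix.minpoly_dvd_charpoly x) x.charpoly_monic.ne_zero
  rwa [Matrix.charpoly_natDegree_eq_dim, Fintype.card_fin] at h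

theorem eq_zero_of_small {x : Mat} {P : F[X]} (hP : aeval x P = 0)
    (hdeg : P.degree < (minpoly F x).degree) : P = 0 := by
  by_contra h
  exact not_lt.2 (minpoly.degree_le_of_ne_zero F x h hP) hdeg

theorem rem_degree_lt (x : Mat) (P : F[X]) : (P %ₘ minpoly F x).degree < (minpoly F x).degree :=
  Polynomial.degree_modByMonic_lt _ (minpoly.monic (Matrix.isIntegral x))

theorem rem_coeff_eq_zero (x : Mat) (P : F[X]) {j : ℕ} (hj : (minpoly F x).natDegree ≤ j) :
    (P %ₘ minpoly F x).coeff j = 0 :=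
  Polynomial.coeff_eq_zero_of_degree_lt (lt_of_lt_of_le (rem_degree_lt x P)
    (Polynomial.degree_le_natDegree.trans (by exact_mod_cast hj)))

/-- The coefficient vector of a member of the polynomial algebra. -/
noncomputable def vec (x : Mat) (P : F[X]) : Fin (minpoly F x).natDegree → F :=
  fun j => (P %ₘ minpoly F x).coeff j

theorem vec_inj {x : Mat} {P Q : F[X]} (h : vec x P = vec x Q) : aeval x P = aeval x Q := by
  rw [← aeval_rem x P, ← aeval_rem x Q]
  congr 1
  ext j
  rcases lt_or_ge j (minpoly F x).natDegree with hj | hj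
  · exact congrFun h ⟨j, hj⟩
  · rw [rem_coeff_eq_zero x P hj, rem_coeff_eq_zero x Q hj]

theorem vec_ne_zero {x : Mat} {P : F[X]} (h : aeval x P ≠ 0) : vec x P ≠ 0 := fun e => h (by
  rw [vec_inj (P := P) (Q := 0) (e.trans (by funext j; simp [vec])), map_zero])

/-- Distinct nonzero members of the algebra with coefficients in `S` are few. -/
theorem card_add_one_le [Finite F] {ι : Type*} [Finite ι] (x : Mat) (P : ι → F[X]) (S : Set F)
    (hinj : Function.Injective fun i => aeval x (P i)) (hne : ∀ i, aeval x (P i) ≠ 0)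
    (h0 : (0 : F) ∈ S) (hS : ∀ i j, (P i %ₘ minpoly F x).coeff j ∈ S) :
    Nat.card ι + 1 ≤ Nat.card S ^ (minpoly F x).natDegree := by
  let f : Option ι → Fin (minpoly F x).natDegree → S := fun o =>
    o.elim (fun _ => ⟨0, h0⟩) fun i j => ⟨vec x (P i) j, hS i j⟩
  have hf : Function.Injective f := by
    rintro (_ | i) (_ | j) h
    · rfl
    · exact absurd (funext fun k => (congrArg Subtype.val (congrFun h k)).symm) (vec_ne_zero (hne j))
    · exact absurd (funext fun k => congrArg Subtype.val (congrFun h k)) (vec_ne_zero (hne i))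
    · exact congrArg some (hinj (vec_inj (funext fun k => congrArg Subtype.val (congrFun h k))))
  have := Nat.card_le_card_of_injective f hf
  rwa [Finite.card_option, Nat.card_fun, Nat.card_fin] at this

theorem smul_ne_zero' {x : GL (Fin d) F} [NeZero d] {c : F} (hc : c ≠ 0) : c • (x : Mat) ≠ 0 :=
  smul_ne_zero hc x.ne_zero

/-- Powers that are proportional are equal projectively. -/
theorem mk_eq_of_smul {y z : GL (Fin d) F} {a b : F} (ha : a ≠ 0)
    (h : a • (y : Mat) = b • (z : Mat)) :
    (y : GL (Fin d) F ⧸ Subgroup.center (GL (Fin d) F)) = z := by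
  rcases Nat.eq_zero_or_pos d with rfl | hd
  · exact congrArg _ (Units.ext (Matrix.ext fun i => i.elim0))
  haveI : NeZero d := ⟨hd.ne'⟩
  have hb : b ≠ 0 := fun e => smul_ne_zero' (x := y) ha (by rw [h, e, zero_smul])
  rw [QuotientGroup.eq, Matrix.GeneralLinearGroup.mem_center_iff_val_mem_range_scalar]
  refine ⟨a / b, ?_⟩
  have hz : (z : Mat) = (a / b) • (y : Mat) := by
    rw [div_eq_mul_inv, mul_comm, mul_smul, h, inv_smul_smul₀ hb]
  rw [Units.val_mul, hz, mul_smul_comm, Units.inv_mul, Matrix.smul_one_eq_diagonal]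
  rfl

theorem pow_inj {x : GL (Fin d) F} {i j : ℕ} {a b : F} (hi : i < pord x) (hj : j < pord x) (ha : a ≠ 0)
    (h : a • ((x ^ i : GL (Fin d) F) : Mat) = b • ((x ^ j : GL (Fin d) F) : Mat)) :
    i = j := by
  have h2 := mk_eq_of_smul ha h
  simp only [QuotientGroup.mk_pow] at h2
  exact pow_injOn_Iio_orderOf (Set.mem_Iio.2 hi) (Set.mem_Iio.2 hj) h2

theorem aeval_C_mul_X_pow (x : GL (Fin d) F) (c : F) (i : ℕ) :
    aeval (x : Mat) (C c * X ^ i) = c • ((x ^ i : GL (Fin d) F) : Mat) := by
  simp [Algebra.smul_def]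

theorem map_pow_conj (g : GL (Fin d) F) (σ : F ≃+* F) (M : Mat) (k : ℕ) :
    ((g : Mat) * M.map σ * ((g⁻¹ : GL (Fin d) F) : Mat)) ^ k =
      (g : Mat) * (M ^ k).map σ * ((g⁻¹ : GL (Fin d) F) : Mat) := by
  induction k with
  | zero => simp
  | succ k ih => rw [pow_succ, ih, pow_succ, Matrix.map_mul]; simp [mul_assoc]

theorem aeval_map_twist (g : GL (Fin d) F) (σ : F ≃+* F) (x : Mat)
    (hx : (g : Mat) * x.map σ * ((g⁻¹ : GL (Fin d) F) : Mat) = x) (P : F[X]) :
    aeval x (P.map (σ : F →+* F)) = (g : Mat) * (aeval x P).map σ * ((g⁻¹ : GL (Fin d) F) : Mat) := by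
  induction P using Polynomial.induction_on' with
  | add p q hp hq =>
    rw [Polynomial.map_add, map_add, map_add, hp, hq, Matrix.map_add _ (map_add σ), mul_add, add_mul]
  | monomial k a =>
    rw [Polynomial.map_monomial, aeval_monomial, aeval_monomial, ← Algebra.smul_def, ← Algebra.smul_def,
      Matrix.map_smul' _ _ _ (map_mul σ), mul_smul_comm, smul_mul_assoc, ← map_pow_conj, hx]
    rfl

/-- The fixed field bounds the projective order of an invariant matrix. -/
theorem twisted_bound [Finite F] (hd : 1 ≤ d) (g x : GL (Fin d) F) (σ : F ≃+* F)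
    (hx : (g : Mat) * (x : Mat).map σ * ((g⁻¹ : GL (Fin d) F) : Mat) = x) :
    (Nat.card {a : F | σ a = a} - 1) * pord x + 1 ≤ Nat.card {a : F | σ a = a} ^ d := by
  haveI : NeZero d := ⟨by omega⟩
  set S := {a : F | σ a = a} with hS
  let P : Fin (pord x) × {c : S // (c : F) ≠ 0} → F[X] := fun p => C (p.2.1 : F) * X ^ (p.1 : ℕ)
  have hP : ∀ p, aeval (x : Mat) (P p) = (p.2.1 : F) • ((x ^ (p.1 : ℕ) : GL (Fin d) F) : Mat) :=
    fun p => aeval_C_mul_X_pow x _ _
  have h := card_add_one_le (x : Mat) P S ?_ ?_ (map_zero σ) ?_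
  · refine le_trans ?_ (h.trans (Nat.pow_le_pow_right ?_ (natDegree_minpoly_le _)))
    · rw [Nat.card_prod, Nat.card_fin, mul_comm]
      refine Nat.add_le_add_right (Nat.mul_le_mul_left _ ?_) 1
      classical
      have := Fintype.ofFinite S
      rw [Nat.card_eq_fintype_card, Nat.card_eq_fintype_card, Fintype.card_subtype_compl]
      refine Nat.sub_le_sub_left ?_ _
      exact Fintype.card_le_one_iff.2 fun a b => Subtype.ext (Subtype.ext (a.2.trans b.2.symm))
    · exact Nat.card_pos_iff.2 ⟨⟨⟨0, map_zero σ⟩⟩, inferInstance⟩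
  · intro p p' e
    have e' : (p.2.1 : F) • ((x ^ (p.1 : ℕ) : GL (Fin d) F) : Mat) =
        (p'.2.1 : F) • ((x ^ (p'.1 : ℕ) : GL (Fin d) F) : Mat) := (hP p).symm.trans (e.trans (hP p'))
    have h1 := Fin.ext (pow_inj p.1.2 p'.1.2 p.2.2 e')
    rw [h1] at e'
    exact Prod.ext h1 (Subtype.ext (Subtype.ext (smul_left_injective F (x ^ (p'.1 : ℕ)).ne_zero e')))
  · intro p; rw [hP]; exact smul_ne_zero' p.2.2
  · intro p j
    set R := P p %ₘ minpoly F (x : Mat) with hR
    have h1 : aeval (x : Mat) (R.map (σ : F →+* F)) = aeval (x : Mat) R := by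
      rw [aeval_map_twist g σ _ hx, aeval_rem, hP, Matrix.map_smul' _ _ _ (map_mul σ),
        show σ (p.2.1 : F) = p.2.1 from p.2.1.2, mul_smul_comm, smul_mul_assoc, Units.val_pow_eq_pow_val,
        ← map_pow_conj, hx]
    have h2 : R.map (σ : F →+* F) - R = 0 := eq_zero_of_small (x := (x : Mat)) (by rw [map_sub, h1, sub_self])
      (lt_of_le_of_lt (Polynomial.degree_sub_le _ _) (max_lt (lt_of_le_of_lt Polynomial.degree_map_le
        (rem_degree_lt _ _)) (rem_degree_lt _ _)))
    have h3 := congrArg (fun Q : F[X] => Q.coeff j) (sub_eq_zero.1 h2)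
    simpa [hS] using h3

theorem two_mul_pow_lt (N : ℕ) (hN : 2 ≤ N) : 2 * N ^ N < (N + 1) ^ N := by
  have key : ∀ j, N ^ (j + 2) + (j + 2) * N ^ (j + 1) < (N + 1) ^ (j + 2) := by
    intro j
    induction j with
    | zero => ring_nf; omega
    | succ j ih =>
      have := Nat.mul_lt_mul_of_pos_right ih (show 0 < N + 1 by omega)
      rw [← pow_succ] at this
      refine lt_of_le_of_lt ?_ this
      have h0 : 0 ≤ (j + 2) * N ^ (j + 1) := Nat.zero_le _
      simp only [pow_succ, add_mul, mul_add] at *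
      nlinarith
  obtain ⟨j, rfl⟩ : ∃ j, N = j + 2 := ⟨N - 2, by omega⟩
  have h := key j
  rw [show (j + 2) * (j + 2) ^ (j + 1) = (j + 2) ^ (j + 2) by rw [← pow_succ']] at h
  omega

/-- Reps avoiding the roots. -/
theorem card_mul_le_of_roots [Finite F] {m : ℕ} (hm : Nat.card F - 1 ≤ m) :
    Nat.card {v : Fin m → F // ∀ c : Fˣ, ∑ j, v j * (c : F) ^ (j : ℕ) ≠ 0} *
      Nat.card F ^ (Nat.card F - 1) ≤ Nat.card F ^ m * (Nat.card F - 1) ^ (Nat.card F - 1) := by
  classical
  have := Fintype.ofFinite F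
  let T : (Fin m → F) →ₗ[F] (Fˣ → F) :=
    { toFun := fun v c => ∑ j, v j * (c : F) ^ (j : ℕ)
      map_add' := fun v w => funext fun c => by simp [add_mul, Finset.sum_add_distrib]
      map_smul' := fun a v => funext fun c => by simp [Finset.mul_sum, mul_assoc] }
  have hcu : Fintype.card Fˣ = Nat.card F - 1 := by rw [Fintype.card_units, Nat.card_eq_fintype_card]
  have hsurj : Function.Surjective T := by
    intro w
    set P := Lagrange.interpolate (Finset.univ : Finset Fˣ) (fun c => (c : F)) w with hPdef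
    have hdeg : P.degree < (m : WithBot ℕ) := lt_of_lt_of_le
      (Lagrange.degree_interpolate_lt _ fun a _ b _ h => Units.ext h)
      (by rw [Finset.card_univ, hcu]; exact_mod_cast hm)
    refine ⟨fun j => P.coeff j, funext fun c => ?_⟩
    have he : P.eval (c : F) = w c :=
      Lagrange.eval_interpolate_at_node (s := (Finset.univ : Finset Fˣ)) w (fun a _ b _ h => Units.ext h) (Finset.mem_univ c)
    show ∑ j : Fin m, P.coeff j * (c : F) ^ (j : ℕ) = w c
    rcases Nat.eq_zero_or_pos m with rfl | hm0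
    · exfalso
      have : 0 < Fintype.card Fˣ := Fintype.card_pos
      omega
    rw [← he, Polynomial.eval_eq_sum_range' (n := m) ?_, Finset.sum_range]
    by_cases hP0 : P = 0
    · rw [hP0, Polynomial.natDegree_zero]; exact hm0
    · rw [Polynomial.degree_eq_natDegree hP0] at hdeg; exact_mod_cast hdeg
  obtain ⟨s, hs⟩ := T.exists_rightInverse_of_surjective (LinearMap.range_eq_top.2 hsurj)
  have hs' : ∀ w, T (s w) = w := fun w => LinearMap.congr_fun hs w
  let e : (Fin m → F) ≃ LinearMap.ker T × (Fˣ → F) :=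
    { toFun := fun v => (⟨v - s (T v), by rw [LinearMap.mem_ker, map_sub, hs', sub_self]⟩, T v)
      invFun := fun p => p.1.1 + s p.2
      left_inv := fun v => sub_add_cancel v _
      right_inv := fun p => by
        have h1 : T (p.1.1 + s p.2) = p.2 := by rw [map_add, LinearMap.mem_ker.1 p.1.2, hs', zero_add]
        exact Prod.ext (Subtype.ext (by simp only [h1, add_sub_cancel_right])) h1 }
  have hV : Nat.card (LinearMap.ker T) * Nat.card F ^ (Nat.card F - 1) = Nat.card F ^ m := by
    have := Nat.card_congr e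
    rw [Nat.card_prod, Nat.card_fun, Nat.card_fin, Nat.card_fun, Nat.card_eq_fintype_card (α := Fˣ), hcu] at this
    exact this.symm
  let f : {v : Fin m → F // ∀ c : Fˣ, ∑ j, v j * (c : F) ^ (j : ℕ) ≠ 0} →
      LinearMap.ker T × (Fˣ → {a : F // a ≠ 0}) := fun v => ((e v.1).1, fun c => ⟨(e v.1).2 c, v.2 c⟩)
  have hf : Function.Injective f := fun v w h => by
    have h0 : (e v.1).1 = (e w.1).1 := (Prod.ext_iff.1 h).1
    refine Subtype.ext (e.injective (Prod.ext h0 (funext fun c => ?_)))
    exact congrArg Subtype.val (congrFun (Prod.ext_iff.1 h).2 c)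
  have h1 := Nat.card_le_card_of_injective f hf
  rw [Nat.card_prod, Nat.card_fun, Nat.card_eq_fintype_card (α := Fˣ), hcu,
    show Nat.card {a : F // a ≠ 0} = Nat.card F - 1 by
      rw [Nat.card_eq_fintype_card, Fintype.card_subtype_compl, Fintype.card_subtype_eq,
        Nat.card_eq_fintype_card]] at h1
  calc _ ≤ Nat.card (LinearMap.ker T) * (Nat.card F - 1) ^ (Nat.card F - 1) *
        Nat.card F ^ (Nat.card F - 1) := Nat.mul_le_mul_right _ h1
    _ = _ := by rw [← hV]; ring

/-- Half of the Singer order bounds matrices similar to their twisted inverse. -/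
theorem dual_bound [Fintype F] (hd : 3 ≤ d) (h32 : ¬ (d = 3 ∧ Fintype.card F = 2)) (g x : GL (Fin d) F)
    (σ : F ≃+* F)
    (hx : (g : Mat) * ((x : Mat).map σ).transpose * ((g⁻¹ : GL (Fin d) F) : Mat) = ((x⁻¹ : GL (Fin d) F) : Mat)) :
    2 * ((Fintype.card F - 1) * pord x) + 1 ≤ Fintype.card F ^ d := by
  classical
  haveI : NeZero d := ⟨by omega⟩
  set q := Fintype.card F with hq
  have hq2 : 2 ≤ q := Fintype.one_lt_card
  set μ := minpoly F (x : Mat) with hμ
  have hmd : μ.natDegree ≤ d := natDegree_minpoly_le _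
  have hS : Nat.card (Set.univ : Set F) = q := by
    rw [Nat.card_congr (Equiv.Set.univ F), Nat.card_eq_fintype_card]
  let P : Fin (pord x) × Fˣ → F[X] := fun p => C (p.2 : F) * X ^ (p.1 : ℕ)
  have hP : ∀ p, aeval (x : Mat) (P p) = (p.2 : F) • ((x ^ (p.1 : ℕ) : GL (Fin d) F) : Mat) :=
    fun p => aeval_C_mul_X_pow x _ _
  have hPinj : Function.Injective fun p => aeval (x : Mat) (P p) := by
    intro p p' e
    have e' : (p.2 : F) • ((x ^ (p.1 : ℕ) : GL (Fin d) F) : Mat) =
        (p'.2 : F) • ((x ^ (p'.1 : ℕ) : GL (Fin d) F) : Mat) := (hP p).symm.trans (e.trans (hP p'))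
    have h1 := Fin.ext (pow_inj p.1.2 p'.1.2 p.2.ne_zero e')
    rw [h1] at e'
    exact Prod.ext h1 (Units.ext (smul_left_injective F (x ^ (p'.1 : ℕ)).ne_zero e'))
  have hPne : ∀ p, aeval (x : Mat) (P p) ≠ 0 := fun p => by rw [hP]; exact smul_ne_zero' p.2.ne_zero
  have hcard : Nat.card (Fin (pord x) × Fˣ) = (q - 1) * pord x := by
    rw [Nat.card_prod, Nat.card_fin, Nat.card_eq_fintype_card, Fintype.card_units, mul_comm]
  rcases lt_or_eq_of_le hmd with hlt | heq
  · have h := card_add_one_le (x : Mat) P Set.univ hPinj hPne trivial (fun _ _ => trivial)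
    rw [hcard, hS, ← hμ] at h
    have h2 : 2 * q ^ μ.natDegree ≤ q ^ d := calc
      2 * q ^ μ.natDegree ≤ q * q ^ μ.natDegree := Nat.mul_le_mul_right _ hq2
      _ = q ^ (μ.natDegree + 1) := (pow_succ' _ _).symm
      _ ≤ q ^ d := Nat.pow_le_pow_right (by omega) hlt
    omega
  have hμ0 : μ ≠ 0 := minpoly.ne_zero (Matrix.isIntegral _)
  by_cases hall : ∀ c : Fˣ, μ.IsRoot (c : F)
  · -- every nonzero scalar is an eigenvalue
    have hqm : q - 1 ≤ μ.natDegree := by
      have h1 : (Finset.univ.image fun c : Fˣ => (c : F)).card ≤ μ.natDegree := by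
        refine (Finset.card_le_card ?_).trans ((Multiset.toFinset_card_le _).trans μ.card_roots')
        intro a ha
        obtain ⟨c, -, rfl⟩ := Finset.mem_image.1 ha
        exact Multiset.mem_toFinset.2 ((Polynomial.mem_roots hμ0).2 (hall c))
      rwa [Finset.card_image_of_injective _ (fun a b e => Units.ext e), Finset.card_univ, Fintype.card_units] at h1
    let f : Fin (pord x) × Fˣ →
        {v : Fin μ.natDegree → F // ∀ c : Fˣ, ∑ j, v j * (c : F) ^ (j : ℕ) ≠ 0} := fun p =>
      ⟨vec (x : Mat) (P p), fun c hc => by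
        set R := P p %ₘ μ with hR
        have hev : R.eval (c : F) = 0 := by
          rw [Polynomial.eval_eq_sum_range' (n := μ.natDegree) ?_, Finset.sum_range]
          · exact hc
          · by_cases hR0 : R = 0
            · rw [hR0, Polynomial.natDegree_zero]; omega
            · exact Polynomial.natDegree_lt_natDegree hR0 (rem_degree_lt _ _)
        obtain ⟨ν, hν⟩ := Polynomial.dvd_iff_isRoot.2 (hall c)
        obtain ⟨R', hR'⟩ := Polynomial.dvd_iff_isRoot.2 (show R.IsRoot (c : F) from hev)
        have hν0 : ν ≠ 0 := fun e => hμ0 (by rw [hν, e, mul_zero])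
        have h1 : aeval (x : Mat) R * aeval (x : Mat) ν = 0 := by
          rw [← map_mul, show R * ν = R' * μ by rw [hR', hν]; ring, map_mul, minpoly.aeval, mul_zero]
        rw [hR, aeval_rem, hP, smul_mul_assoc, smul_eq_zero, or_iff_right p.2.ne_zero] at h1
        have h2 := congrArg (fun M => (((x ^ (p.1 : ℕ))⁻¹ : GL (Fin d) F) : Mat) * M) h1
        simp only [← mul_assoc, Units.inv_mul, one_mul, mul_zero] at h2
        have h3 := minpoly.degree_le_of_ne_zero F (x : Mat) hν0 h2
        rw [← hμ] at h3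
        have h4 := Polynomial.natDegree_le_natDegree h3
        rw [hν, Polynomial.natDegree_mul (Polynomial.X_sub_C_ne_zero _) hν0, Polynomial.natDegree_X_sub_C] at h4
        omega⟩
    have hf : Function.Injective f := fun p p' e => hPinj (vec_inj (congrArg Subtype.val e))
    have h := (Nat.mul_le_mul_right (Nat.card F ^ (Nat.card F - 1)) (Nat.card_le_card_of_injective f hf)).trans
      (card_mul_le_of_roots (by rwa [Nat.card_eq_fintype_card]))
    rw [hcard, Nat.card_eq_fintype_card, ← hq, heq] at h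
    set A := (q - 1) * pord x with hA
    rcases Nat.lt_or_ge 2 q with hq3 | hq3
    · obtain ⟨N, hN⟩ : ∃ N, q = N + 1 := ⟨q - 1, by omega⟩
      rw [hN, Nat.add_sub_cancel] at h
      have h1 := two_mul_pow_lt N (by omega)
      rw [hN]
      have h3 : 0 < (N + 1) ^ d := by positivity
      have : 2 * A * (N + 1) ^ N < (N + 1) ^ d * (N + 1) ^ N :=
        calc 2 * A * (N + 1) ^ N ≤ 2 * ((N + 1) ^ d * N ^ N) := by rw [mul_assoc]; exact Nat.mul_le_mul_left _ h
          _ < _ := by rw [mul_left_comm]; exact Nat.mul_lt_mul_of_pos_left h1 h3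
      exact Nat.lt_of_mul_lt_mul_right this
    · have hq' : q = 2 := le_antisymm hq3 hq2
      rw [hq'] at h ⊢
      norm_num at h
      have hA' : A = pord x := by rw [hA, hq']; simp
      rw [hA'] at h ⊢
      by_contra hcon
      have hn2 : 2 * pord x = 2 ^ d := by omega
      have hn : pord x = 2 ^ (d - 1) := by
        obtain ⟨k, rfl⟩ : ∃ k, d = k + 1 := ⟨d - 1, by omega⟩
        rw [pow_succ, Nat.add_sub_cancel] at *; omega
      have hd4 : 4 ≤ d := by
        rcases Nat.lt_or_ge d 4 with h4 | h4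
        · exact absurd ⟨by omega, hq'⟩ h32
        · exact h4
      have hone : ∀ c : Fˣ, c = 1 := fun c => by
        have h1 : Fintype.card Fˣ ≤ 1 := by rw [Fintype.card_units, ← hq, hq']
        exact Fintype.card_le_one_iff.1 h1 c 1
      have hroot : X - C (1 : F) ∣ μ := Polynomial.dvd_iff_isRoot.2 (hall 1)
      haveI : CharP F 2 := by
        obtain ⟨p, hpc⟩ := CharP.exists F
        haveI := hpc
        obtain ⟨k, hp, hk⟩ := FiniteField.card F p
        rw [← hq, hq'] at hk
        have hd : p ∣ 2 := hk ▸ dvd_pow_self p k.ne_zero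
        rwa [(Nat.prime_dvd_prime_iff_eq hp Nat.prime_two).1 hd] at hpc
      have hxn : (x : Mat) ^ pord x = 1 := by
        have h1 : ((x ^ pord x : GL (Fin d) F)) ∈ Subgroup.center (GL (Fin d) F) := by
          rw [← QuotientGroup.eq_one_iff, QuotientGroup.mk_pow, pord, pow_orderOf_eq_one]
        rw [Matrix.GeneralLinearGroup.center_eq_range_scalar] at h1
        obtain ⟨c, hc⟩ := h1
        rw [hone c, map_one] at hc
        rw [← Units.val_pow_eq_pow_val, ← hc, Units.val_one]
      have hpow : ∀ k, (X - C (1 : F)) ^ 2 ^ k = X ^ 2 ^ k - C 1 := fun k => by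
        rw [sub_pow_char_pow, ← map_pow, one_pow]
      have hdvd : μ ∣ (X - C (1 : F)) ^ pord x := by
        refine minpoly.dvd F _ ?_
        rw [hn, hpow, ← hn]; simp [hxn]
      obtain ⟨j, -, hj⟩ := (dvd_prime_pow (Polynomial.prime_X_sub_C (1 : F)) (pord x)).1 hdvd
      have hμeq : μ = (X - C (1 : F)) ^ j :=
        eq_of_monic_of_associated (minpoly.monic (Matrix.isIntegral _)) ((monic_X_sub_C _).pow j) hj
      have hjd : j = d := by
        rw [← heq, hμeq, Polynomial.natDegree_pow, Polynomial.natDegree_X_sub_C, mul_one]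
      have hbig : d ≤ 2 ^ (d - 2) := by
        obtain ⟨k, rfl⟩ : ∃ k, d = k + 4 := ⟨d - 4, by omega⟩
        show k + 4 ≤ 2 ^ (k + 2)
        have := Nat.lt_two_pow_self (n := k)
        rw [pow_add]; omega
      have h0 : aeval (x : Mat) ((X - C (1 : F)) ^ 2 ^ (d - 2)) = 0 := by
        obtain ⟨Q, hQ⟩ := pow_dvd_pow (X - C (1 : F)) hbig
        rw [hQ, show (X - C (1 : F)) ^ d = μ by rw [hμeq, hjd], map_mul, minpoly.aeval, zero_mul]
      rw [hpow] at h0
      simp only [map_sub, map_pow, aeval_X, aeval_C, map_one, sub_eq_zero] at h0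
      have h5 : orderOf (x : GL (Fin d) F ⧸ Subgroup.center (GL (Fin d) F)) ∣ 2 ^ (d - 2) := by
        refine orderOf_dvd_of_pow_eq_one ?_
        rw [← QuotientGroup.mk_pow, show x ^ 2 ^ (d - 2) = 1 from Units.ext (by simpa using h0)]
        rfl
      have := Nat.le_of_dvd (by positivity) h5
      rw [← pord, hn] at this
      have := (Nat.pow_le_pow_iff_right (by norm_num : 1 < 2)).1 this
      omega
  · push Not at hall
    obtain ⟨c, hc⟩ := hall
    have hcop : IsCoprime (X - C (c : F)) μ :=
      (Polynomial.irreducible_X_sub_C (c : F)).coprime_iff_not_dvd.2 fun h => hc (Polynomial.dvd_iff_isRoot.1 h)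
    obtain ⟨A, B, hAB⟩ := hcop
    set u : Mat := aeval (x : Mat) (X - C (c : F)) with hu
    have hinv : aeval (x : Mat) A * u = 1 := by
      have := congrArg (aeval (x : Mat)) hAB
      rwa [map_add, map_mul, map_mul, map_one, minpoly.aeval, mul_zero, add_zero] at this
    have hinv' : u * aeval (x : Mat) A = 1 := by rw [hu, ← map_mul, mul_comm, map_mul]; exact hinv
    let Q : (Fin (pord x) × Fˣ) × Bool → F[X] := fun p => cond p.2 ((X - C (c : F)) * P p.1) (P p.1)
    have hQt : ∀ p, aeval (x : Mat) (Q (p, true)) = u * aeval (x : Mat) (P p) := fun p => map_mul _ _ _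
    have hQne : ∀ p, aeval (x : Mat) (Q p) ≠ 0 := by
      rintro ⟨p, _ | _⟩ e
      · exact hPne p e
      · rw [hQt] at e
        exact hPne p (by rw [← one_mul (aeval (x : Mat) (P p)), ← hinv, mul_assoc, e, mul_zero])
    -- the adjoint
    let θ : Mat → Mat := fun M => (g : Mat) * (M.map σ).transpose * ((g⁻¹ : GL (Fin d) F) : Mat)
    have θmul : ∀ M N : Mat, θ (M * N) = θ N * θ M := fun M N => by
      simp only [θ, Matrix.map_mul, Matrix.transpose_mul, mul_assoc, Units.inv_mul_cancel_left]
    have θsmul : ∀ (a : F) (M : Mat), θ (a • M) = σ a • θ M := fun a M => by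
      simp only [θ, Matrix.map_smul' _ _ _ (map_mul σ), Matrix.transpose_smul, mul_smul_comm, smul_mul_assoc]
    have θone : θ 1 = 1 := by simp [θ]
    have θpow : ∀ k : ℕ, θ ((x : Mat) ^ k) = (((x ^ k)⁻¹ : GL (Fin d) F) : Mat) := by
      intro k
      induction k with
      | zero => simpa using θone
      | succ k ih =>
        rw [pow_succ, θmul, ih, show θ (x : Mat) = _ from hx, pow_succ x k, _root_.mul_inv_rev, Units.val_mul]
    have θu : θ u = ((x⁻¹ : GL (Fin d) F) : Mat) - σ (c : F) • 1 := by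
      have h1 : u = (x : Mat) - (c : F) • 1 := by rw [hu, map_sub, aeval_X, aeval_C, Algebra.algebraMap_eq_smul_one]
      rw [h1, ← hx]
      simp only [θ, Matrix.map_sub _ (map_sub σ), Matrix.transpose_sub, mul_sub, sub_mul]
      rw [show ((c : F) • (1 : Mat)).map σ = σ (c : F) • 1 by
        rw [Matrix.map_smul' _ _ _ (map_mul σ), Matrix.map_one σ (map_zero σ) (map_one σ)]]
      simp [Matrix.transpose_smul]
    have hmix : ∀ p p', aeval (x : Mat) (Q (p, true)) ≠ aeval (x : Mat) (Q (p', false)) := by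
      intro p p' e
      rw [hQt, show Q (p', false) = P p' from rfl, hP, hP, mul_smul_comm] at e
      set i := (p.1 : ℕ)
      set j := (p'.1 : ℕ)
      set a := (p.2 : F)
      set b := (p'.2 : F)
      have ha : a ≠ 0 := p.2.ne_zero
      have hcomm : u * ((x ^ i : GL (Fin d) F) : Mat) = ((x ^ i : GL (Fin d) F) : Mat) * u := by
        rw [Units.val_pow_eq_pow_val, hu, ← aeval_X_pow (R := F), ← map_mul, ← map_mul, mul_comm]
      have e2 : θ (a • (((x ^ i : GL (Fin d) F) : Mat) * u)) * (a • (((x ^ i : GL (Fin d) F) : Mat) * u)) =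
          θ (b • ((x ^ j : GL (Fin d) F) : Mat)) * (b • ((x ^ j : GL (Fin d) F) : Mat)) := by
        rw [← hcomm, e]
      rw [θsmul, θsmul, θmul, θu, Units.val_pow_eq_pow_val, θpow, Units.val_pow_eq_pow_val, θpow,
        smul_mul_smul_comm, smul_mul_smul_comm, ← Units.val_pow_eq_pow_val, ← Units.val_pow_eq_pow_val,
        Units.inv_mul, mul_assoc, Units.inv_mul_cancel_left] at e2
      -- a quadratic relation
      have e3 := congrArg (fun M => (x : Mat) * M) e2
      have h1 : u = (x : Mat) - (c : F) • 1 := by rw [hu, map_sub, aeval_X, aeval_C, Algebra.algebraMap_eq_smul_one]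
      simp only [mul_smul_comm, mul_one, ← mul_assoc, mul_sub, Units.mul_inv] at e3
      rw [h1] at e3
      let R : F[X] := C (-(σ a * a * σ (c : F))) * X ^ 2 +
        C (σ a * a * (1 + σ (c : F) * c) - σ b * b) * X + C (-(σ a * a * c))
      have hR0 : aeval (x : Mat) R = 0 := by
        simp only [R, map_add, map_mul, aeval_C, aeval_X_pow, aeval_X, Algebra.algebraMap_eq_smul_one,
          smul_mul_assoc, one_mul]
        simp only [sub_mul, smul_mul_assoc, one_mul, smul_sub, mul_sub, mul_smul_comm, mul_one, smul_smul] at e3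
        rw [pow_two]
        linear_combination (norm := module) e3
      have hRne : R ≠ 0 := fun h => by
        have h2 := congrArg (fun S : F[X] => S.coeff 2) h
        simp only [R, coeff_add, coeff_zero, coeff_C_mul_X_pow, coeff_C_mul_X, coeff_C] at h2
        norm_num [ha, c.ne_zero] at h2
      have hdeg : R.natDegree ≤ 2 := by
        refine Polynomial.natDegree_le_iff_coeff_eq_zero.2 fun k hk => ?_
        obtain ⟨k, rfl⟩ : ∃ k', k = k' + 3 := ⟨k - 3, by omega⟩
        simp only [R, coeff_add, coeff_C_mul_X_pow, coeff_C_mul_X, coeff_C]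
        simp
      have := Polynomial.natDegree_le_natDegree (minpoly.degree_le_of_ne_zero F (x : Mat) hRne hR0)
      rw [← hμ] at this
      omega
    have hQinj : Function.Injective fun p => aeval (x : Mat) (Q p) := by
      rintro ⟨p, _ | _⟩ ⟨p', _ | _⟩ e
      · exact congrArg (·, false) (hPinj e)
      · exact absurd e.symm (hmix p' p)
      · exact absurd e (hmix p p')
      · refine congrArg (·, true) (hPinj ?_)
        have e' : u * aeval (x : Mat) (P p) = u * aeval (x : Mat) (P p') := (hQt p).symm.trans (e.trans (hQt p'))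
        show aeval (x : Mat) (P p) = aeval (x : Mat) (P p')
        rw [← one_mul (aeval (x : Mat) (P p)), ← hinv, mul_assoc, e', ← mul_assoc, hinv, one_mul]
    have h := card_add_one_le (x : Mat) Q Set.univ hQinj hQne trivial (fun _ _ => trivial)
    rw [Nat.card_prod, hcard, hS, Nat.card_eq_fintype_card (α := Bool), Fintype.card_bool, ← hμ, heq] at h
    omega

end Cfsg.Agent.AutPSLOrder
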