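import Cfsg.Agent.Lib.AutPSLOrder.Count
import Cfsg.Agent.Lib.AutPSLOrder.Arith
import Cfsg.Agent.Lib.AutPSL.Main
import Cfsg.Agent.Lib.AutPSL.Count
import Cfsg.Agent.Lib.FieldAut.Descent
import Cfsg.Agent.S2261

/-!
The maximal order of an automorphism of `PSL`.

Main results (namespace `Cfsg.Agent.AutPSLOrder`):
* `orderOf_semi_refl`, `semi_pow`, `semi_bound`, `graph_bound`, `aut_bound`
-/

set_option autoImplicit false

open Matrix
open scoped MatrixGroups

namespace Cfsg.Agent.AutPSLOrder

open AutPSL FieldAut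

variable {F : Type*} [Field F] {m : ℕ}

local notation "Mat" => Matrix (Fin (m + 2)) (Fin (m + 2)) F

theorem orderOf_semi_refl (x : GL (Fin (m + 2)) F) :
    orderOf (semi x (RingEquiv.refl F)) = pord x := by
  refine orderOf_eq_orderOf_iff.2 fun k => ?_
  have hk : semi x (RingEquiv.refl F) ^ k = semi (x ^ k) (RingEquiv.refl F) := by
    induction k with
    | zero => rw [pow_zero, pow_zero, semi_one]
    | succ k ih => rw [pow_succ, ih, semi_refl_mul, pow_succ]
  rw [hk, semi_eq_one_iff, ← QuotientGroup.mk_pow, QuotientGroup.eq_one_iff]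
  simp

theorem semi_pow (g : GL (Fin (m + 2)) F) (σ : F ≃+* F) (r : ℕ) :
    semi g σ ^ r = semi (twNorm σ r g) (σ ^ r) := by
  induction r with
  | zero => exact semi_one.symm
  | succ r ih =>
    rw [pow_succ', ih, semi_mul, pow_succ' σ r]
    rfl

theorem twNorm_succ' (σ : F ≃+* F) (g : GL (Fin (m + 2)) F) (r : ℕ) :
    twNorm σ (r + 1) g = twNorm σ r g * galGL (σ ^ r) g := by
  induction r with
  | zero => simp [twNorm]
  | succ r ih =>
    calc twNorm σ (r + 1 + 1) g = g * galGL σ (twNorm σ (r + 1) g) := rfl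
      _ = g * galGL σ (twNorm σ r g) * galGL (σ ^ (r + 1)) g := by
        rw [ih, map_mul (galGL σ), ← mul_assoc, pow_succ' σ r, map_mul, MulAut.mul_apply]
      _ = _ := rfl

theorem ringAut_pos [Fintype F] (σ : F ≃+* F) : 0 < orderOf σ := by
  have : Finite (F ≃+* F) := Finite.of_injective _ DFunLike.coe_injective
  exact orderOf_pos σ

theorem card_fix [Fintype F] (σ : F ≃+* F) :
    Nat.card {a : F | σ a = a} ^ orderOf σ = Fintype.card F ∧ 2 ≤ Nat.card {a : F | σ a = a} := by
  refine ⟨?_, ?_⟩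
  · rw [← Nat.card_eq_fintype_card, ← pow_card_fixed σ (r := orderOf σ) rfl]
    congr 1
    exact Nat.card_congr (Equiv.subtypeEquivRight fun a => (mem_fixF σ).symm)
  · exact Finite.one_lt_card_iff_nontrivial.2
      ⟨⟨0, map_zero σ⟩, ⟨1, map_one σ⟩, fun e => zero_ne_one (congrArg Subtype.val e)⟩

/-- The order of a semilinear automorphism. -/
theorem semi_bound [Fintype F] (g : GL (Fin (m + 2)) F) (σ : F ≃+* F) :
    orderOf (semi g σ) ≤ orderOf σ * gsum (Nat.card {a : F | σ a = a}) (m + 2) := by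
  have he := ringAut_pos σ
  set e := orderOf σ with he'
  set N := twNorm σ e g with hN
  have hσe : σ ^ e = 1 := pow_orderOf_eq_one σ
  have hinv : g * galGL σ N * g⁻¹ = N := by
    rw [show g * galGL σ N = twNorm σ (e + 1) g from rfl, twNorm_succ', hσe, map_one, MulAut.one_apply,
      mul_inv_cancel_right]
  have hpow : semi g σ ^ e = semi N (RingEquiv.refl F) := by rw [semi_pow, hσe]; rfl
  have hb := twisted_bound (by omega) g N σ (congrArg (fun y : GL (Fin (m + 2)) F => (y : Mat)) hinv)
  have hm := le_gsum (card_fix σ).2 hb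
  have hM : 0 < orderOf (semi N (RingEquiv.refl F)) := by
    rw [orderOf_semi_refl]; exact orderOf_pos _
  have hdvd : orderOf (semi g σ) ∣ e * orderOf (semi N (RingEquiv.refl F)) := by
    refine orderOf_dvd_of_pow_eq_one ?_
    rw [pow_mul, hpow, pow_orderOf_eq_one]
  refine (Nat.le_of_dvd (Nat.mul_pos he hM) hdvd).trans (Nat.mul_le_mul_left _ ?_)
  rwa [orderOf_semi_refl]

theorem semi_invT_sq (g : GL (Fin (m + 2)) F) (σ : F ≃+* F) :
    semi g σ * invT * (semi g σ * invT) = semi (g * galGL σ (ctr g)) (σ * σ) := by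
  rw [mul_assoc, ← mul_assoc invT, invT_semi, mul_assoc (semi (ctr g) σ), invT_sq, mul_one, semi_mul]
  rfl

/-- The order of a graph automorphism. -/
theorem graph_bound [Fintype F] (hm : 1 ≤ m) (h32 : ¬ (m + 2 = 3 ∧ Fintype.card F = 2))
    (g : GL (Fin (m + 2)) F) (σ : F ≃+* F) :
    (Fintype.card F - 1) * orderOf (semi g σ * invT) ≤ Fintype.card F ^ (m + 2) - 1 := by
  set h := g * galGL σ (ctr g) with hh
  set τ := σ * σ with hτ
  have hdvd : orderOf (semi g σ * invT) ∣ 2 * orderOf (semi h τ) := by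
    refine orderOf_dvd_of_pow_eq_one ?_
    rw [pow_mul, sq, semi_invT_sq, pow_orderOf_eq_one]
  have hpos : 0 < orderOf (semi h τ) := by
    have : Finite (MulAut (ProjectiveSpecialLinearGroup (Fin (m + 2)) F)) :=
      Finite.of_injective _ DFunLike.coe_injective
    exact orderOf_pos _
  have hle := Nat.le_of_dvd (Nat.mul_pos two_pos hpos) hdvd
  have hq2 : 2 ≤ Fintype.card F := Fintype.one_lt_card
  by_cases hτ1 : τ = 1
  · have hinv : g * galGL σ (ctr h⁻¹) * g⁻¹ = h⁻¹ := by
      have hc : ctr h⁻¹ = galGL σ g⁻¹ * ctr g⁻¹ := by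
        refine Units.ext ?_
        show (((h⁻¹)⁻¹ : GL (Fin (m + 2)) F) : Mat).transpose =
          (((g⁻¹ : GL (Fin (m + 2)) F) : Mat)).map σ * (((g⁻¹)⁻¹ : GL (Fin (m + 2)) F) : Mat).transpose
        rw [inv_inv, inv_inv, hh, Units.val_mul, Matrix.transpose_mul, galGL_apply_coe, ← Matrix.transpose_map]
        show ((((g⁻¹ : GL (Fin (m + 2)) F) : Mat).transpose).transpose).map σ * _ = _
        rw [Matrix.transpose_transpose]
      have hgg : ∀ y : GL (Fin (m + 2)) F, galGL σ (galGL σ y) = y := fun y => by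
        rw [← MulAut.mul_apply, ← map_mul, ← hτ, hτ1, map_one, MulAut.one_apply]
      rw [hc, map_mul, hgg, hh, _root_.mul_inv_rev, ← mul_assoc, mul_inv_cancel, one_mul, ← map_inv (galGL σ)]
      congr 2
    have hmat : (g : Mat) * ((h : Mat).map σ).transpose * ((g⁻¹ : GL (Fin (m + 2)) F) : Mat) =
        ((h⁻¹ : GL (Fin (m + 2)) F) : Mat) := by
      refine Eq.trans ?_ (congrArg (fun y : GL (Fin (m + 2)) F => (y : Mat)) hinv)
      show _ = (g : Mat) * (((h⁻¹)⁻¹ : GL (Fin (m + 2)) F) : Mat).transpose.map σ * _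
      rw [inv_inv, Matrix.transpose_map]
    have hd := dual_bound (by omega) h32 g h σ hmat
    rw [show semi h τ = semi h (RingEquiv.refl F) by rw [hτ1]; rfl, orderOf_semi_refl] at hle
    have := Nat.mul_le_mul_left (Fintype.card F - 1) hle
    rw [mul_left_comm] at this
    omega
  · set a := Nat.card {x : F | τ x = x} with ha
    obtain ⟨hcard, ha2⟩ := card_fix τ
    have he2 : 2 ≤ orderOf τ := by
      have := ringAut_pos τ
      by_contra hlt
      exact hτ1 (orderOf_eq_one_iff.1 (by omega))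
    have hex : 3 ≤ a ∨ 3 ≤ orderOf τ := by
      by_contra hcon
      have h2 : orderOf τ = 2 := by omega
      have haval : a = 2 := by omega
      rw [← ha, haval, h2] at hcard
      obtain ⟨hc, ha'⟩ := card_fix σ
      have h4 : orderOf σ = 4 := by
        have hs := orderOf_pow_dvd (x := σ) 2
        have hdv : orderOf σ ∣ 4 := by
          refine orderOf_dvd_of_pow_eq_one ?_
          have := pow_orderOf_eq_one τ
          rw [h2, hτ, sq] at this
          rw [show 4 = 2 * 2 from rfl, pow_mul, sq, sq]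
          exact this
        have hn2 : ¬ orderOf σ ∣ 2 := fun hd => hτ1 (by
          rw [hτ, ← sq]; exact orderOf_dvd_iff_pow_eq_one.1 hd)
        have hle4 := Nat.le_of_dvd (by norm_num) hdv
        interval_cases hval : orderOf σ <;> simp_all
      rw [h4, ← hcard] at hc
      have := Nat.pow_le_pow_left ha' 4
      omega
    have hb := semi_bound h τ
    have harith := graph_arith ha2 he2 hex (m + 2) (by omega)
    rw [hcard] at harith
    refine le_sub_one_mul (by omega) (hle.trans (le_trans ?_ harith))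
    rw [mul_assoc]
    exact Nat.mul_le_mul_left _ hb

/-- Every automorphism of `PSL` has order at most `(q^d - 1) / (q - 1)`. -/
theorem aut_bound [Fintype F] (h2 : ¬ (m + 2 = 2 ∧ Fintype.card F = 4))
    (h32 : ¬ (m + 2 = 3 ∧ Fintype.card F = 2)) (α : MulAut (ProjectiveSpecialLinearGroup (Fin (m + 2)) F)) :
    (Fintype.card F - 1) * orderOf α ≤ Fintype.card F ^ (m + 2) - 1 := by
  have hq2 : 2 ≤ Fintype.card F := Fintype.one_lt_card
  have hsemi : ∀ (g : GL (Fin (m + 2)) F) (σ : F ≃+* F), (Fintype.card F - 1) * orderOf (semi g σ) ≤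
      Fintype.card F ^ (m + 2) - 1 := by
    intro g σ
    obtain ⟨hcard, ha2⟩ := card_fix σ
    have harith := field_arith ha2 (ringAut_pos σ) (m + 2) (by omega) (fun ⟨e1, e2, e3⟩ => h2 ⟨e1, by
      rw [← hcard, e2, e3]; rfl⟩)
    rw [hcard] at harith
    exact le_sub_one_mul (by omega) ((semi_bound g σ).trans harith)
  rcases Nat.eq_zero_or_pos m with rfl | hm
  · obtain ⟨g, σ, rfl⟩ := exists_semi_of_two α
    exact hsemi g σ
  · rcases exists_semi_or α with ⟨g, σ, rfl⟩ | ⟨g, σ, rfl⟩
    · exact hsemi g σ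
    · exact graph_bound hm h32 g σ

end Cfsg.Agent.AutPSLOrder
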